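import Mathlib.CategoryTheory.Abelian.Basic

/-!
# Objects with a finite filtration with prescribed subquotient
-/

set_option autoImplicit false

universe v u

open CategoryTheory CategoryTheory.Limits
open scoped ZeroObject

namespace Groth.Agent.Filt24

variable {C : Type u} [Category.{v} C] [Abelian C]

/-- `G` has a finite filtration all of whose successive quotients are isomorphic to `K`. -/
inductive Filt (K : C) : C → Prop
  | zero {G : C} (h : IsZero G) : Filt K G
  | step {A G : C} (φ : A ⟶ G) (hm : Mono φ) (hA : Filt K A) (hc : Nonempty (cokernel φ ≅ K)) :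
      Filt K G

variable {K : C}

theorem Filt.of_iso {G G' : C} (h : Filt K G) (e : G ≅ G') : Filt K G' := by
  cases h with
  | zero h => exact Filt.zero (h.of_iso e.symm)
  | step φ hm hA hc =>
    exact Filt.step (φ ≫ e.hom) inferInstance hA (hc.map fun c => cokernelCompIsIso φ e.hom ≪≫ c)

theorem Filt.of_extension {Q : C} (h : Filt K Q) : ∀ {G : C} (π : G ⟶ Q), Epi π →
    Nonempty (kernel π ≅ K) → Filt K G := by
  induction h with
  | zero hQ =>
    intro G π _ hk
    obtain rfl : π = 0 := hQ.eq_of_tgt _ _
    exact Filt.step (0 : (0 : C) ⟶ G) ((isZero_zero C).mono _) (Filt.zero (isZero_zero C))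
      (hk.map fun c => cokernelZeroIsoTarget ≪≫ kernelZeroIsoSource.symm ≪≫ c)
  | @step A Q φ hm hA hc ih =>
    intro G π hπ hk
    haveI := hm; haveI := hπ
    let fst := pullback.fst π φ
    let snd := pullback.snd π φ
    have e₁ : kernel snd ≅ kernel π :=
      { hom := kernel.lift π (kernel.ι snd ≫ fst) (by
          rw [Category.assoc, pullback.condition, ← Category.assoc, kernel.condition, zero_comp])
        inv := kernel.lift snd (pullback.lift (kernel.ι π) 0
          (by rw [kernel.condition, zero_comp])) (pullback.lift_snd _ _ _)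
        hom_inv_id := by
          apply (cancel_mono (kernel.ι snd)).1
          apply pullback.hom_ext
          · dsimp only [fst, snd]
            rw [Category.id_comp, Category.assoc, Category.assoc, kernel.lift_ι_assoc, pullback.lift_fst,
              kernel.lift_ι]
          · dsimp only [fst, snd]
            rw [Category.id_comp, Category.assoc, Category.assoc, kernel.lift_ι_assoc, pullback.lift_snd,
              comp_zero, kernel.condition]
        inv_hom_id := by
          apply (cancel_mono (kernel.ι π)).1
          dsimp only [fst, snd]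
          rw [Category.id_comp, Category.assoc, kernel.lift_ι, kernel.lift_ι_assoc, pullback.lift_fst] }
    let q := π ≫ cokernel.π φ
    have w : fst ≫ q = 0 := by
      simp only [fst, q]
      rw [← Category.assoc, pullback.condition, Category.assoc, cokernel.condition, comp_zero]
    have hlim : IsLimit (KernelFork.ofι fst w) :=
      Fork.IsLimit.mk _
        (fun s => pullback.lift s.ι (Abelian.monoLift φ (s.ι ≫ π) (by
          rw [Category.assoc]; exact KernelFork.condition s))
          (Abelian.monoLift_comp φ _ _).symm)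
        (fun s => pullback.lift_fst _ _ _)
        (fun s m hm => by
          apply pullback.hom_ext
          · rw [pullback.lift_fst]; exact hm
          · apply (cancel_mono φ).1
            rw [pullback.lift_snd, Abelian.monoLift_comp, Category.assoc, ← pullback.condition,
              ← Category.assoc]
            exact congrArg (· ≫ π) hm)
    have hcolim := Abelian.epiIsCokernelOfKernel _ hlim
    refine Filt.step fst inferInstance (ih snd inferInstance (hk.map fun c => e₁ ≪≫ c)) ?_
    exact hc.map fun c => IsColimit.coconePointUniqueUpToIso (colimit.isColimit _) hcolim ≪≫ c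

/-- A filtration is the same as a chain of monomorphisms. -/
theorem Filt.exists_chain {G : C} (h : Filt K G) :
    ∃ (n : ℕ) (F : ℕ → C) (φ : ∀ i, F i ⟶ F (i + 1)), IsZero (F 0) ∧ Nonempty (F n ≅ G) ∧
      ∀ i, i < n → Mono (φ i) ∧ Nonempty (cokernel (φ i) ≅ K) := by
  induction h with
  | @zero G h => exact ⟨0, fun _ => G, fun _ => 𝟙 _, h, ⟨Iso.refl _⟩, fun i hi => absurd hi (by omega)⟩
  | @step A G ψ hm hA hc ih =>
    obtain ⟨n, F, φ, hF0, ⟨e⟩, hφ⟩ := ih
    haveI := hm
    let F' : ℕ → C := fun i => if i ≤ n then F i else G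
    have hle : ∀ i, i ≤ n → F' i = F i := fun i hi => if_pos hi
    have hgt : ∀ i, n < i → F' i = G := fun i hi => if_neg (by omega)
    let φ' : ∀ i, F' i ⟶ F' (i + 1) := fun i =>
      if h₁ : i < n then eqToHom (hle i h₁.le) ≫ φ i ≫ eqToHom (hle (i + 1) h₁).symm
      else if h₂ : i = n then
        eqToHom (hle i h₂.le) ≫ eqToHom (congrArg F h₂) ≫ e.hom ≫ ψ ≫ eqToHom (hgt (i + 1) (by omega)).symm
      else 0
    have hP : ∀ {X Y X' Y' : C} (a : X ⟶ Y) (l : X' ⟶ X) (r : Y ⟶ Y'), IsIso l → IsIso r → Mono a →
        Nonempty (cokernel a ≅ K) → Mono (l ≫ a ≫ r) ∧ Nonempty (cokernel (l ≫ a ≫ r) ≅ K) := by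
      intro X Y X' Y' a l r hl hr ha hc
      exact ⟨inferInstance, hc.map fun c => cokernelEpiComp l (a ≫ r) ≪≫ cokernelCompIsIso a r ≪≫ c⟩
    refine ⟨n + 1, F', φ', ?_, ⟨eqToIso (hgt (n + 1) (by omega))⟩, fun i hi => ?_⟩
    · rw [hle 0 (Nat.zero_le _)]; exact hF0
    · by_cases h₁ : i < n
      · simp only [φ', dif_pos h₁]
        exact hP (φ i) _ _ inferInstance inferInstance (hφ i h₁).1 (hφ i h₁).2
      · have h₂ : i = n := by omega
        simp only [φ', dif_neg h₁, dif_pos h₂]
        have := hP ψ (eqToHom (hle i h₂.le) ≫ eqToHom (congrArg F h₂) ≫ e.hom)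
          (eqToHom (hgt (i + 1) (by omega)).symm) inferInstance inferInstance hm hc
        simpa only [Category.assoc] using this

end Groth.Agent.Filt24
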