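import Groth.Agent.Lib.ExtShriek24.TraceFinEt
import Groth.Agent.Lib.EtStalk.Push

/-!
# Degrees of finite étale covers, counted on geometric points
-/

set_option autoImplicit false
set_option linter.style.haveILetI false

universe u

open CategoryTheory CategoryTheory.Limits AlgebraicGeometry Opposite

namespace Groth.Agent.Filt24

variable {W S : Scheme.{u}}

/-- All geometric fibres of `f` have cardinality `d`. -/
def HasDeg (f : W ⟶ S) (d : ℕ) : Prop :=
  ∀ (Ω : Type u) [Field Ω] [IsAlgClosed Ω] (η : Spec (CommRingCat.of Ω) ⟶ S),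
    Nat.card {t : Spec (CommRingCat.of Ω) ⟶ W // t ≫ f = η} = d

theorem hasDeg_of_finrank (f : W ⟶ S) [IsFinite f] [AlgebraicGeometry.Etale f] (d : ℕ)
    (h : ∀ x : S, f.finrank x = d) : HasDeg f d :=
  fun _ _ _ η => (ExtShriek24.card_lifts_eq_finrank f η).trans (h _)

theorem exists_hasDeg [ConnectedSpace S] (f : W ⟶ S) [IsFinite f] [AlgebraicGeometry.Etale f] :
    ∃ d, HasDeg f d ∧ ∀ w : W, 0 < d := by
  obtain ⟨x₀⟩ := (inferInstance : Nonempty S)
  have hc : ∀ x : S, f.finrank x = f.finrank x₀ := fun x =>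
    f.isLocallyConstant_finrank.apply_eq_of_preconnectedSpace x x₀
  exact ⟨f.finrank x₀, hasDeg_of_finrank f _ hc,
    fun w => (hc (f w)) ▸ (f.one_le_finrank_map w)⟩

theorem exists_geomPoint [Nonempty S] : ∃ (Ω : Type u) (_ : Field Ω) (_ : IsAlgClosed Ω),
    Nonempty (Spec (CommRingCat.of Ω) ⟶ S) := by
  obtain ⟨x⟩ := (inferInstance : Nonempty S)
  exact ⟨AlgebraicClosure (S.residueField x), inferInstance, inferInstance,
    ⟨Spec.map (CommRingCat.ofHom (algebraMap (S.residueField x) (AlgebraicClosure (S.residueField x)))) ≫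
      S.fromSpecResidueField x⟩⟩

theorem HasDeg.comp {T : Scheme.{u}} {h : T ⟶ W} {f : W ⟶ S} {a b : ℕ} (ha : HasDeg h a)
    (hb : HasDeg f b) (ha0 : a ≠ 0) (hb0 : b ≠ 0) : HasDeg (h ≫ f) (a * b) := by
  intro Ω _ _ η
  let B := {t : Spec (CommRingCat.of Ω) ⟶ W // t ≫ f = η}
  haveI : Finite B := Nat.finite_of_card_ne_zero ((hb Ω η).trans_ne hb0)
  let e : {t : Spec (CommRingCat.of Ω) ⟶ T // t ≫ h ≫ f = η} ≃
      Σ y : B, {t : Spec (CommRingCat.of Ω) ⟶ T // t ≫ h = y.1} :=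
    { toFun := fun t => ⟨⟨t.1 ≫ h, (Category.assoc _ _ _).trans t.2⟩, ⟨t.1, rfl⟩⟩
      invFun := fun p => ⟨p.2.1, by rw [← Category.assoc, p.2.2]; exact p.1.2⟩
      left_inv := fun t => rfl
      right_inv := by
        rintro ⟨⟨y, hy⟩, ⟨t, ht⟩⟩
        obtain rfl : t ≫ h = y := ht
        rfl }
  rw [Nat.card_congr e]
  letI := Fintype.ofFinite B
  haveI : ∀ y : B, Finite {t : Spec (CommRingCat.of Ω) ⟶ T // t ≫ h = y.1} := fun y =>
    Nat.finite_of_card_ne_zero ((ha Ω y.1).trans_ne ha0)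
  rw [Nat.card_sigma, Finset.sum_congr rfl (fun y _ => ha Ω y.1), Finset.sum_const, Finset.card_univ,
    ← Nat.card_eq_fintype_card, hb Ω η, smul_eq_mul, mul_comm]

theorem HasDeg.id : HasDeg (𝟙 S) 1 := by
  intro Ω _ _ η
  haveI : Unique {t : Spec (CommRingCat.of Ω) ⟶ S // t ≫ 𝟙 S = η} :=
    { default := ⟨η, Category.comp_id η⟩
      uniq := fun t => Subtype.ext ((Category.comp_id t.1).symm.trans t.2) }
  exact Nat.card_unique

theorem isClosedImmersion_ι {A : W.Opens} (h : IsClosed (A : Set W)) : IsClosedImmersion A.ι :=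
  IsClosedImmersion.of_isPreimmersion A.ι (by rw [Scheme.Opens.range_ι]; exact h)

theorem isFinite_ι_comp {A : W.Opens} (h : IsClosed (A : Set W)) (f : W ⟶ S) [IsFinite f] :
    IsFinite (A.ι ≫ f) := by
  haveI := isClosedImmersion_ι h
  infer_instance

theorem card_lifts_split (A B : W.Opens) (hd : Disjoint (A : Set W) B) (hu : (A : Set W) ∪ B = Set.univ)
    (f : W ⟶ S) {Ω : Type u} [Field Ω] (η : Spec (CommRingCat.of Ω) ⟶ S)
    [Finite {t : Spec (CommRingCat.of Ω) ⟶ A.toScheme // t ≫ A.ι ≫ f = η}]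
    [Finite {t : Spec (CommRingCat.of Ω) ⟶ B.toScheme // t ≫ B.ι ≫ f = η}] :
    Nat.card {t : Spec (CommRingCat.of Ω) ⟶ W // t ≫ f = η} =
      Nat.card {t : Spec (CommRingCat.of Ω) ⟶ A.toScheme // t ≫ A.ι ≫ f = η} +
      Nat.card {t : Spec (CommRingCat.of Ω) ⟶ B.toScheme // t ≫ B.ι ≫ f = η} := by
  rw [← Nat.card_sum]
  symm
  refine Nat.card_eq_of_bijective (Sum.elim
    (fun t => ⟨t.1 ≫ A.ι, (Category.assoc _ _ _).trans t.2⟩)
    (fun t => ⟨t.1 ≫ B.ι, (Category.assoc _ _ _).trans t.2⟩)) ⟨?_, ?_⟩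
  · have key : ∀ (a : Spec (CommRingCat.of Ω) ⟶ A.toScheme) (b : Spec (CommRingCat.of Ω) ⟶ B.toScheme),
        a ≫ A.ι ≠ b ≫ B.ι := fun a b e => by
      have hp := congrArg (fun k : Spec (CommRingCat.of Ω) ⟶ W => k default) e
      simp only [Scheme.Hom.comp_apply] at hp
      exact Set.disjoint_left.1 hd (a default).2 (by
        rw [show ((a default).1 : W) = (b default).1 from hp]; exact (b default).2)
    rintro (⟨a, ha⟩ | ⟨a, ha⟩) (⟨b, hb⟩ | ⟨b, hb⟩) e <;> simp only [Sum.elim_inl, Sum.elim_inr, Subtype.mk.injEq] at e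
    · rw [cancel_mono] at e; subst e; rfl
    · exact absurd e (key a b)
    · exact absurd e.symm (key b a)
    · rw [cancel_mono] at e; subst e; rfl
  · rintro ⟨t, ht⟩
    have hr : ∀ (U : W.Opens), t default ∈ U → Set.range t ⊆ Set.range U.ι := fun U hU => by
      rintro _ ⟨y, rfl⟩
      obtain rfl : y = default := Subsingleton.elim (α := PrimeSpectrum Ω) _ _
      rw [Scheme.Opens.range_ι]
      exact SetLike.mem_coe.2 hU
    rcases (hu.ge (Set.mem_univ (t default))) with h | h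
    · exact ⟨Sum.inl ⟨IsOpenImmersion.lift A.ι t (hr A h),
        by rw [← Category.assoc, IsOpenImmersion.lift_fac]; exact ht⟩,
        Subtype.ext (IsOpenImmersion.lift_fac _ _ _)⟩
    · exact ⟨Sum.inr ⟨IsOpenImmersion.lift B.ι t (hr B h),
        by rw [← Category.assoc, IsOpenImmersion.lift_fac]; exact ht⟩,
        Subtype.ext (IsOpenImmersion.lift_fac _ _ _)⟩

/-- A finite étale cover of degree prime to `ℓ` of a connected scheme has a connected piece of
degree prime to `ℓ`. -/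
theorem exists_connected [ConnectedSpace S] {ℓ : ℕ} (hℓ : ℓ.Prime) (d : ℕ) :
    ∀ (W : Scheme.{u}) (f : W ⟶ S), IsFinite f → AlgebraicGeometry.Etale f → HasDeg f d →
      ℓ.Coprime d →
      ∃ (V : Scheme.{u}) (j : V ⟶ W) (e : ℕ), IsFinite (j ≫ f) ∧ AlgebraicGeometry.Etale (j ≫ f) ∧
        ConnectedSpace V ∧ ℓ.Coprime e ∧ HasDeg (j ≫ f) e := by
  induction d using Nat.strong_induction_on with
  | _ d ih =>
    intro W f hf he hdeg hco
    haveI := hf; haveI := he
    obtain ⟨Ω, _, _, ⟨η⟩⟩ := exists_geomPoint (S := S)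
    have hd0 : d ≠ 0 := fun h => hℓ.one_lt.ne' (Nat.coprime_zero_right ℓ |>.1 (h ▸ hco))
    have hne : Nonempty W := by
      have hc : Nat.card {t : Spec (CommRingCat.of Ω) ⟶ W // t ≫ f = η} ≠ 0 := (hdeg Ω η).trans_ne hd0
      haveI := (Nat.card_ne_zero.1 hc).1
      exact ⟨(Classical.arbitrary {t : Spec (CommRingCat.of Ω) ⟶ W // t ≫ f = η}).1 default⟩
    by_cases hp : PreconnectedSpace W
    · exact ⟨W, 𝟙 W, d, by rw [Category.id_comp]; infer_instance,
        by rw [Category.id_comp]; infer_instance, { toPreconnectedSpace := hp, toNonempty := hne }, hco, by rwa [Category.id_comp]⟩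
    rw [preconnectedSpace_iff_clopen] at hp
    push Not at hp
    obtain ⟨s, hs, hs0, hs1⟩ := hp
    let A : W.Opens := ⟨s, hs.isOpen⟩
    let B : W.Opens := ⟨sᶜ, hs.isClosed.isOpen_compl⟩
    haveI := isFinite_ι_comp (A := A) hs.isClosed f
    haveI := isFinite_ι_comp (A := B) hs.compl.isClosed f
    obtain ⟨a, ha, ha0⟩ := exists_hasDeg (A.ι ≫ f)
    obtain ⟨b, hb, hb0⟩ := exists_hasDeg (B.ι ≫ f)
    obtain ⟨x, hx⟩ := hs0
    obtain ⟨y, hy⟩ := Set.nonempty_compl.2 hs1
    have hapos : 0 < a := ha0 ⟨x, hx⟩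
    have hbpos : 0 < b := hb0 ⟨y, hy⟩
    have hsum : d = a + b := by
      rw [← hdeg Ω η, ← ha Ω η, ← hb Ω η]
      haveI := Nat.finite_of_card_ne_zero ((ha Ω η).trans_ne hapos.ne')
      haveI := Nat.finite_of_card_ne_zero ((hb Ω η).trans_ne hbpos.ne')
      exact card_lifts_split A B disjoint_compl_right (Set.union_compl_self s) f η
    by_cases hca : ℓ.Coprime a
    · obtain ⟨V, j, e, h1, h2, h3, h4, h5⟩ := ih a (by omega) A.toScheme (A.ι ≫ f)
        inferInstance inferInstance ha hca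
      exact ⟨V, j ≫ A.ι, e, by rwa [Category.assoc], by rwa [Category.assoc], h3, h4, by rwa [Category.assoc]⟩
    · have hcb : ℓ.Coprime b := by
        rw [hℓ.coprime_iff_not_dvd] at hco hca ⊢
        exact fun h => hco (hsum ▸ Nat.dvd_add (not_not.1 hca) h)
      obtain ⟨V, j, e, h1, h2, h3, h4, h5⟩ := ih b (by omega) B.toScheme (B.ι ≫ f)
        inferInstance inferInstance hb hcb
      exact ⟨V, j ≫ B.ι, e, by rwa [Category.assoc], by rwa [Category.assoc], h3, h4, by rwa [Category.assoc]⟩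

end Groth.Agent.Filt24
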