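import Groth.Agent.Lib.Filt24.Basic
import Groth.Agent.Lib.Filt24.Deg
import Groth.Agent.Lib.CdP3.Rep
import Groth.Agent.Lib.LocConst24.Iff
import Groth.Agent.Lib.Constr24.Card

/-!
# Trivialising successive quotients of a locally constant `ℓ`-torsion sheaf by a cover prime to `ℓ`
-/

set_option autoImplicit false
set_option linter.style.haveILetI false
set_option backward.isDefEq.respectTransparency.types false

universe u

open CategoryTheory CategoryTheory.Limits AlgebraicGeometry Opposite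
open Groth.Agent.EtStalk Groth.Agent.EtSite Groth.Agent.LocConst24

namespace Groth.Agent.Filt24

variable {W : Scheme.{u}}

theorem nsmul_id_of_killedBy {G : EtCoh.Ab W} {n : ℕ} (h : EtCoh.KilledBy n G) : n • 𝟙 G = 0 := by
  apply CategoryTheory.Sheaf.hom_ext
  apply NatTrans.ext
  funext U
  obtain ⟨U⟩ := U
  refine ConcreteCategory.hom_ext _ _ fun s => ?_
  let φ : (G ⟶ G) →+ G.obj.obj (op U) := AddMonoidHom.mk' (fun a => a.hom.app (op U) s) fun _ _ => rfl
  exact (map_nsmul φ n (𝟙 G)).trans ((h U s).trans (map_zero φ).symm)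

theorem nsmul_stalk_eq_zero {G : EtCoh.Ab W} {n : ℕ} (h : n • 𝟙 G = 0) {Ω : Type u} [Field Ω]
    [IsSepClosed Ω] (ξ : Spec (CommRingCat.of Ω) ⟶ W) (q : (EtCoh.stalk ξ).obj G) : n • q = 0 := by
  obtain ⟨V, x, s, rfl⟩ := germ_surjective ξ G q
  rw [← map_nsmul, CdP3.nsmul_section_eq_zero h s, map_zero]

theorem dvd_natCard {A : Type*} [AddCommGroup A] {p : ℕ} (hp : p.Prime) (h : ∀ a : A, p • a = 0)
    (h1 : Nat.card A ≠ 1) (h0 : Nat.card A ≠ 0) : p ∣ Nat.card A := by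
  haveI := Fact.mk hp
  haveI := Nat.finite_of_card_ne_zero h0
  obtain ⟨a, ha⟩ : ∃ a : A, a ≠ 0 := by
    by_contra hc
    push Not at hc
    exact h1 (Nat.card_eq_one_iff_unique.2 ⟨⟨fun a b => (hc a).trans (hc b).symm⟩, ⟨0⟩⟩)
  have := addOrderOf_dvd_natCard a
  rwa [addOrderOf_eq_prime (h a) ha] at this

theorem stalk_card_ne_zero {G : EtCoh.Ab W} (hG : EtCoh.IsFiniteLocallyConstant G) {Ω : Type u}
    [Field Ω] [IsSepClosed Ω] (ξ : Spec (CommRingCat.of Ω) ⟶ W) :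
    Nat.card ((EtCoh.stalk ξ).obj G) ≠ 0 := by
  obtain ⟨U, u', hu, M, _, hM, σ, hσ⟩ := loc_of_flc hG (ξ default)
  rw [Constr24.card_stalk_eq hσ u' ξ (by rw [hu]; exact Constr24.range_eq_singleton ξ)]
  haveI := hM
  exact Nat.card_pos.ne'

theorem exists_card_eq [ConnectedSpace W] {G : EtCoh.Ab W} (hG : EtCoh.IsFiniteLocallyConstant G) :
    ∃ N : ℕ, ∀ (Ω : Type u) [Field Ω] [IsSepClosed Ω] (ξ : Spec (CommRingCat.of Ω) ⟶ W),
      Nat.card ((EtCoh.stalk ξ).obj G) = N := by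
  obtain ⟨x₀⟩ := (inferInstance : Nonempty W)
  refine ⟨Nat.card ((EtCoh.stalk (geomPt W x₀)).obj G), fun Ω _ _ ξ => ?_⟩
  have hl : Constr24.level G (Nat.card ((EtCoh.stalk (geomPt W x₀)).obj G)) = Set.univ :=
    IsClopen.eq_univ (Constr24.isClopen_level (loc_of_flc hG) _) ⟨x₀, _, inferInstance, inferInstance,
      geomPt W x₀, by rw [Constr24.range_eq_singleton, geomPt_default], rfl⟩
  obtain ⟨K, _, _, ξ', hξ', hn⟩ := hl.ge (Set.mem_univ (ξ default))
  rw [natCard_stalk_eq G ξ _ rfl, ← hn,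
    natCard_stalk_eq G ξ' _ (Constr24.apply_default_of_range ξ' hξ')]

theorem card_cokernel_lt {p : ℕ} [Fact p.Prime] {G : EtCoh.Ab W} (φ : EtCoh.const W (ZMod p) ⟶ G)
    [Mono φ] {Ω : Type u} [Field Ω] [IsSepClosed Ω] (ξ : Spec (CommRingCat.of Ω) ⟶ W)
    (h0 : Nat.card ((EtCoh.stalk ξ).obj G) ≠ 0) :
    Nat.card ((EtCoh.stalk ξ).obj (cokernel φ)) < Nat.card ((EtCoh.stalk ξ).obj G) := by
  haveI := Nat.finite_of_card_ne_zero h0
  have hsurj : Function.Surjective ((EtCoh.stalk ξ).map (cokernel.π φ)) :=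
    (epi_iff_stalk _).1 inferInstance Ω ξ
  refine lt_of_le_of_ne (Nat.card_le_card_of_surjective _ hsurj) fun he => ?_
  haveI : Finite ((EtCoh.stalk ξ).obj (cokernel φ)) := Finite.of_surjective _ hsurj
  have hinj := ((Nat.bijective_iff_surjective_and_card _).2 ⟨hsurj, he.symm⟩).1
  let g : (EtCoh.stalk ξ).obj (EtCoh.const W (ZMod p)) :=
    germ ξ _ (CdP3.topPt ξ) (constSec W (ZMod p) (EtCoh.top W) 1)
  have hg : (EtCoh.stalk ξ).map φ g = 0 := by
    apply hinj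
    rw [map_zero, ← ConcreteCategory.comp_apply, ← Functor.map_comp, cokernel.condition, Functor.map_zero]
    rfl
  have hg0 : g = 0 := (mono_iff_stalk φ).1 inferInstance Ω ξ (hg.trans (map_zero _).symm)
  exact one_ne_zero ((bijAt_constSec W (ZMod p) (EtCoh.top W) Ω ξ (CdP3.topPt ξ)).1
    (hg0.trans (by rw [map_zero, map_zero]) : germ ξ _ (CdP3.topPt ξ) (constSec W (ZMod p) (EtCoh.top W) 1) =
      germ ξ _ (CdP3.topPt ξ) (constSec W (ZMod p) (EtCoh.top W) 0)))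

theorem isZero_of_card_one {G : EtCoh.Ab W}
    (h : ∀ (Ω : Type u) [Field Ω] [IsSepClosed Ω] (ξ : Spec (CommRingCat.of Ω) ⟶ W),
      Nat.card ((EtCoh.stalk ξ).obj G) = 1) : IsZero G := by
  refine (isZero_iff_stalk G).2 fun Ω _ _ ξ => ?_
  haveI := (Nat.card_eq_one_iff_unique.1 (h Ω ξ)).1
  exact AddCommGrpCat.isZero_of_subsingleton _

theorem exists_cover_filt {ℓ : ℕ} [Fact ℓ.Prime] (N : ℕ) :
    ∀ (W : Scheme.{u}) [ConnectedSpace W] (G : EtCoh.Ab W), EtCoh.IsFiniteLocallyConstant G →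
      ℓ • 𝟙 G = 0 →
      (∀ (Ω : Type u) [Field Ω] [IsSepClosed Ω] (ξ : Spec (CommRingCat.of Ω) ⟶ W),
        Nat.card ((EtCoh.stalk ξ).obj G) = N) →
      ∃ (T : Scheme.{u}) (f : T ⟶ W) (d : ℕ), IsFinite f ∧ AlgebraicGeometry.Etale f ∧ ℓ.Coprime d ∧
        HasDeg f d ∧ Filt (EtCoh.const T (ZMod ℓ)) ((EtCoh.pull f).obj G) := by
  induction N using Nat.strong_induction_on with
  | _ N ih =>
    intro W _ G hG hℓ hN
    by_cases h1 : N = 1
    · subst h1
      exact ⟨W, 𝟙 W, 1, inferInstance, inferInstance, Nat.coprime_one_right ℓ, HasDeg.id,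
        Filt.zero ((EtCoh.pull (𝟙 W)).map_isZero (isZero_of_card_one hN))⟩
    obtain ⟨x₀⟩ := (inferInstance : Nonempty W)
    have h0 : N ≠ 0 := hN _ (geomPt W x₀) ▸ stalk_card_ne_zero hG (geomPt W x₀)
    have hp : ℓ.Prime := Fact.out
    have hdvd : ℓ ∣ N := by
      rw [← hN _ (geomPt W x₀)]
      exact dvd_natCard hp (nsmul_stalk_eq_zero hℓ _) (by rw [hN]; exact h1) (by rw [hN]; exact h0)
    have hco : ℓ.Coprime (N - 1) := hp.coprime_iff_not_dvd.2 fun h => hp.not_dvd_one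
      (by simpa [show N - (N - 1) = 1 by omega] using Nat.dvd_sub hdvd h)
    obtain ⟨W', f, hf, he, φ, hφ, hrk⟩ := CdP3.exists_split hG hℓ N hN
    haveI := hf; haveI := he; haveI := hφ
    obtain ⟨V, j, e, hjf, hje, hVc, hcoe, hdege⟩ :=
      exists_connected hp (N - 1) W' f hf he (hasDeg_of_finrank f _ hrk) hco
    haveI := hjf; haveI := hje; haveI := hVc
    let G₁ := (EtCoh.pull j).obj ((EtCoh.pull f).obj G)
    haveI := mono_pull_map j φ
    let φ₁ : EtCoh.const V (ZMod ℓ) ⟶ G₁ := (EtCore.pullConst j (ZMod ℓ)).inv ≫ (EtCoh.pull j).map φ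
    haveI : Mono φ₁ := mono_comp _ _
    have hG₁ : EtCoh.IsFiniteLocallyConstant G₁ := flc_pull j (flc_pull f hG)
    have hℓ₁ : ℓ • 𝟙 G₁ = 0 := by
      simp only [G₁, ← CategoryTheory.Functor.map_id, ← Functor.map_nsmul, hℓ, Functor.map_zero]
    have hN₁ : ∀ (Ω : Type u) [Field Ω] [IsSepClosed Ω] (ξ : Spec (CommRingCat.of Ω) ⟶ V),
        Nat.card ((EtCoh.stalk ξ).obj G₁) = N := fun Ω _ _ ξ => by
      rw [← Nat.card_congr (Equiv.ofBijective _ (ConcreteCategory.bijective_of_isIso (stalkPull j ξ _))),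
        ← Nat.card_congr (Equiv.ofBijective _ (ConcreteCategory.bijective_of_isIso (stalkPull f _ _)))]
      exact hN Ω _
    have hQ : EtCoh.IsFiniteLocallyConstant (cokernel φ₁) := flc_cokernel φ₁ (flc_const V (ZMod ℓ)) hG₁
    have hℓQ : ℓ • 𝟙 (cokernel φ₁) = 0 := by
      apply (cancel_epi (cokernel.π φ₁)).1
      rw [Preadditive.comp_nsmul, Category.comp_id, comp_zero]
      have := congrArg (· ≫ cokernel.π φ₁) hℓ₁
      simpa only [Preadditive.nsmul_comp, Category.id_comp, zero_comp] using this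
    obtain ⟨M, hM⟩ := exists_card_eq hQ
    obtain ⟨y₀⟩ := (inferInstance : Nonempty V)
    have hlt : M < N := by
      rw [← hM _ (geomPt V y₀), ← hN₁ _ (geomPt V y₀)]
      exact card_cokernel_lt φ₁ _ (by rw [hN₁]; exact h0)
    obtain ⟨T, h, d, hhf, hhe, hcod, hdegh, hfilt⟩ := ih M hlt V (cokernel φ₁) hQ hℓQ hM
    haveI := hhf; haveI := hhe
    refine ⟨T, h ≫ j ≫ f, d * e, inferInstance, inferInstance, Nat.Coprime.mul_right hcod hcoe,
      hdegh.comp hdege (fun h0' => hp.one_lt.ne' ((Nat.coprime_zero_right ℓ).1 (h0' ▸ hcod)))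
        (fun h0' => hp.one_lt.ne' ((Nat.coprime_zero_right ℓ).1 (h0' ▸ hcoe))), ?_⟩
    let S₁ := ShortComplex.mk φ₁ (cokernel.π φ₁) (cokernel.condition φ₁)
    have hS₁ : S₁.ShortExact := { exact := ShortComplex.exact_cokernel φ₁ }
    have hS₂ := hS₁.map_of_exact (EtCoh.pull h)
    haveI := hS₂.mono_f
    haveI := hS₂.epi_g
    refine Filt.of_iso (hfilt.of_extension ((EtCoh.pull h).map (cokernel.π φ₁)) hS₂.epi_g ⟨?_⟩)
      ((EtCoh.pull h).mapIso ((EtCore.pullComp j f).app G).symm ≪≫ ((EtCore.pullComp h (j ≫ f)).app G).symm)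
    exact IsLimit.conePointUniqueUpToIso (limit.isLimit _) hS₂.fIsKernel ≪≫ EtCore.pullConst h (ZMod ℓ)

end Groth.Agent.Filt24
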